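import Groth.Agent.ProjTwistLib.Lift
import Groth.Agent.ProjTwist.Basic
import Groth.Agent.AmpleLib.Tensor

/-!
# Fractions as sections of twisting sheaves; multiplication of twisting sheaves
-/

set_option autoImplicit false
set_option backward.isDefEq.respectTransparency false
set_option linter.style.haveILetI false

universe u

open CategoryTheory CategoryTheory.Limits AlgebraicGeometry TopologicalSpace Opposite
open HomogeneousLocalization
open Groth.Agent.PullbackMod Groth.Agent.DCohLib Groth.Agent.ParaFLib Groth.Agent.AmpleLib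
open Groth.Agent.ProjTwist

noncomputable section

namespace Groth.Agent.ProjTwistLib

variable {R A : Type u} [CommRing R] [CommRing A] [Algebra R A] {𝒜 : ℕ → Submodule R A} [GradedAlgebra 𝒜]

/-! ### The fraction `a / s` as a section -/

variable (𝒜) in
/-- The fraction `a / s` of degree `d`, as a section of `O(d)`. -/
def frac {i j : ℕ} (a : 𝒜 i) (s : 𝒜 j) (d : ℤ) (h : (i : ℤ) = j + d) {V : (Proj 𝒜).Opens}
    (hV : V ≤ Proj.basicOpen 𝒜 s.1) : Γ(Twist.twist 𝒜 d, V) :=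
  (⟨fun x => ⟨Localization.mk a.1 ⟨s.1, hV x.2⟩, Submodule.subset_span ⟨i, j, a, s, hV x.2, by omega, rfl⟩⟩,
    fun x => ⟨V, x.2, 𝟙 _, i, j, a, s, fun y => hV y.2, Or.inl (by omega), fun _ => rfl⟩⟩ :
      Twist.sectN (𝒜 := 𝒜) d (op V))

lemma valAt_frac {i j : ℕ} (a : 𝒜 i) (s : 𝒜 j) (d : ℤ) (h : (i : ℤ) = j + d) {V : (Proj 𝒜).Opens}
    (hV : V ≤ Proj.basicOpen 𝒜 s.1) (x : V) :
    valAt (frac 𝒜 a s d h hV) x = Localization.mk a.1 ⟨s.1, hV x.2⟩ := rfl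

lemma frac_res {i j : ℕ} (a : 𝒜 i) (s : 𝒜 j) (d : ℤ) (h : (i : ℤ) = j + d) {V W : (Proj 𝒜).Opens}
    (hV : V ≤ Proj.basicOpen 𝒜 s.1) (hW : W ≤ V) :
    (Twist.twist 𝒜 d).presheaf.map (homOfLE hW).op (frac 𝒜 a s d h hV) = frac 𝒜 a s d h (hW.trans hV) := rfl

lemma valAt_unit {V : (Proj 𝒜).Opens} (c : Γ(Proj 𝒜, V)) (x : V) :
    valAt ((ProjCoh.unitToTwist 𝒜).app V c) x = ((c : Twist.O (𝒜 := 𝒜) (op V)).1 x).val := rfl

theorem gen_frac {i j : ℕ} (a : 𝒜 i) (s : 𝒜 j) (d : ℤ) (h : (i : ℤ) = j + d) {V : (Proj 𝒜).Opens}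
    (hV : V ≤ Proj.basicOpen 𝒜 s.1) (hV' : V ≤ Proj.basicOpen 𝒜 a.1) : Gen V (frac 𝒜 a s d h hV) := by
  intro O hO
  have e : (fun r : Γ(Proj 𝒜, O) => r • (Twist.twist 𝒜 d).presheaf.map (homOfLE hO).op (frac 𝒜 a s d h hV)) =
      mulFrac 𝒜 a s 0 d (by omega) (hO.trans hV) ∘ (ProjCoh.unitToTwist 𝒜).app O := funext fun r => sect_ext fun x => by
    rw [frac_res, valAt_smul, valAt_frac]
    exact (mul_comm _ _).trans (valAt_mulFrac a s 0 d (by omega) (hO.trans hV) ((ProjCoh.unitToTwist 𝒜).app O r) x).symm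
  rw [e]
  exact (mulFrac_bijective a s 0 d _ _ (hO.trans hV')).comp (ProjCoh.unitToTwist_bijective O)

/-- `O(d)` has a generator `a / s` near `x`. -/
def HasUnit (𝒜 : ℕ → Submodule R A) [GradedAlgebra 𝒜] (d : ℤ) (x : Proj 𝒜) : Prop :=
  ∃ (i j : ℕ) (a : 𝒜 i) (s : 𝒜 j), (i : ℤ) = j + d ∧ x ∈ Proj.basicOpen 𝒜 a.1 ∧ x ∈ Proj.basicOpen 𝒜 s.1

theorem hasUnit_zero (x : Proj 𝒜) : HasUnit 𝒜 0 x :=
  ⟨0, 0, ⟨1, SetLike.GradedOne.one_mem⟩, ⟨1, SetLike.GradedOne.one_mem⟩, by simp, by simp, by simp⟩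

theorem HasUnit.add {d e : ℤ} {x : Proj 𝒜} (h : HasUnit 𝒜 d x) (h' : HasUnit 𝒜 e x) : HasUnit 𝒜 (d + e) x := by
  obtain ⟨i, j, a, s, he, ha, hs⟩ := h
  obtain ⟨i', j', a', s', he', ha', hs'⟩ := h'
  refine ⟨i + i', j + j', ⟨a.1 * a'.1, SetLike.mul_mem_graded a.2 a'.2⟩, ⟨s.1 * s'.1, SetLike.mul_mem_graded s.2 s'.2⟩,
    by push_cast; omega, ?_, ?_⟩
  · rw [Proj.basicOpen_mul]
    exact ⟨ha, ha'⟩
  · rw [Proj.basicOpen_mul]
    exact ⟨hs, hs'⟩

theorem HasUnit.neg {d : ℤ} {x : Proj 𝒜} (h : HasUnit 𝒜 d x) : HasUnit 𝒜 (-d) x := by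
  obtain ⟨i, j, a, s, he, ha, hs⟩ := h
  exact ⟨j, i, s, a, by omega, hs, ha⟩

theorem HasUnit.zmul {d : ℤ} {x : Proj 𝒜} (h : HasUnit 𝒜 d x) (n : ℤ) : HasUnit 𝒜 (n * d) x := by
  induction n with
  | zero => simpa using hasUnit_zero x
  | succ k hk => simpa [add_mul] using hk.add h
  | pred k hk =>
    rw [show (-(k : ℤ) - 1) * d = -(k : ℤ) * d + -d by ring]
    exact hk.add h.neg

theorem hasUnit_of_mem {d : ℕ} {x : Proj 𝒜} (a : 𝒜 d) (ha : x ∈ Proj.basicOpen 𝒜 a.1) : HasUnit 𝒜 d x :=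
  ⟨d, 0, a, ⟨1, SetLike.GradedOne.one_mem⟩, by simp, ha, by simp⟩

theorem hasUnit_of_iSup {d : ℕ} {x : Proj 𝒜} (hx : x ∈ ⨆ g : 𝒜 d, Proj.basicOpen 𝒜 (g : A)) :
    HasUnit 𝒜 d x := by
  obtain ⟨g, hg⟩ := Opens.mem_iSup.1 hx
  exact hasUnit_of_mem g hg

theorem HasUnit.exists_gen {d : ℤ} {x : Proj 𝒜} (h : HasUnit 𝒜 d x) :
    ∃ (W : (Proj 𝒜).Opens) (u : Γ(Twist.twist 𝒜 d, W)), x ∈ W ∧ Gen W u := by
  obtain ⟨i, j, a, s, he, ha, hs⟩ := h
  exact ⟨Proj.basicOpen 𝒜 s.1 ⊓ Proj.basicOpen 𝒜 a.1, frac 𝒜 a s d he inf_le_left, ⟨hs, ha⟩,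
    gen_frac a s d he _ inf_le_right⟩

theorem isInvertible_of_hasUnit {d : ℤ} (h : ∀ x : Proj 𝒜, HasUnit 𝒜 d x) :
    PicF.IsInvertible (Twist.twist 𝒜 d) := isInvertible_of_gen fun x => (h x).exists_gen

/-! ### Multiplication -/

lemma mem_twistAt_mul {x : ProjectiveSpectrum 𝒜} {m n : ℤ} {p q : Twist.Loc 𝒜 x}
    (hp : p ∈ Twist.twistAt 𝒜 m x) (hq : q ∈ Twist.twistAt 𝒜 n x) : p * q ∈ Twist.twistAt 𝒜 (m + n) x := by
  induction hp using Submodule.span_induction with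
  | mem p hp =>
    obtain ⟨i, j, a, s, hs, he, rfl⟩ := hp
    exact mkMul_mem a s (by omega) hs hq
  | zero => simp
  | add p p' _ _ hp hp' => rw [add_mul]; exact add_mem hp hp'
  | smul c p _ hp =>
    rw [show (c • p) * q = c • (p * q) by rw [Algebra.smul_def, Algebra.smul_def, mul_assoc]]
    exact Submodule.smul_mem _ _ hp

/-- The product of sections. -/
def mulS {m n k : ℤ} (h : m + n = k) {V : (Proj 𝒜).Opens} (f : Twist.sectN (𝒜 := 𝒜) m (op V))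
    (g : Twist.sectN (𝒜 := 𝒜) n (op V)) : Twist.sectN (𝒜 := 𝒜) k (op V) :=
  ⟨fun x => ⟨(f.1 x).1 * (g.1 x).1, h ▸ mem_twistAt_mul (f.1 x).2 (g.1 x).2⟩, fun x => by
    obtain ⟨V₁, hV₁, i₁, a₁, b₁, p₁, q₁, n₁, c₁, w₁⟩ := f.2 x
    obtain ⟨V₂, hV₂, i₂, a₂, b₂, p₂, q₂, n₂, c₂, w₂⟩ := g.2 x
    refine ⟨V₁ ⊓ V₂, ⟨hV₁, hV₂⟩, homOfLE (inf_le_left.trans i₁.le), a₁ + a₂, b₁ + b₂,
      ⟨p₁.1 * p₂.1, SetLike.mul_mem_graded p₁.2 p₂.2⟩, ⟨q₁.1 * q₂.1, SetLike.mul_mem_graded q₁.2 q₂.2⟩,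
      fun y hm => (y.1.isPrime.mem_or_mem hm).elim (n₁ ⟨y.1, y.2.1⟩) (n₂ ⟨y.1, y.2.2⟩), ?_, fun y => ?_⟩
    · rcases c₁ with c₁ | c₁
      · rcases c₂ with c₂ | c₂
        · exact Or.inl (by push_cast; omega)
        · exact Or.inr (show p₁.1 * p₂.1 = 0 by rw [c₂, mul_zero])
      · exact Or.inr (show p₁.1 * p₂.1 = 0 by rw [c₁, zero_mul])
    · show (f.1 (i₁ ⟨y.1, y.2.1⟩)).1 * (g.1 (i₂ ⟨y.1, y.2.2⟩)).1 = _
      rw [w₁ ⟨y.1, y.2.1⟩, w₂ ⟨y.1, y.2.2⟩, Localization.mk_mul]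
      rfl⟩

lemma valAt_mulS {m n k : ℤ} (h : m + n = k) {V : (Proj 𝒜).Opens} (f : Γ(Twist.twist 𝒜 m, V))
    (g : Γ(Twist.twist 𝒜 n, V)) (x : V) :
    valAt (show Γ(Twist.twist 𝒜 k, V) from mulS h f g) x = valAt f x * valAt g x := rfl

lemma valAt_zero {d : ℤ} {V : (Proj 𝒜).Opens} (x : V) : valAt (0 : Γ(Twist.twist 𝒜 d, V)) x = 0 := rfl

lemma valAt_add {d : ℤ} {V : (Proj 𝒜).Opens} (f g : Γ(Twist.twist 𝒜 d, V)) (x : V) :
    valAt (f + g) x = valAt f x + valAt g x := rfl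

variable (𝒜) in
/-- The multiplication pairing. -/
def mulPairing (m n k : ℤ) (h : m + n = k) : Pairing (Twist.twist 𝒜 m) (Twist.twist 𝒜 n) (Twist.twist 𝒜 k) where
  f V := AddMonoidHom.mk' (fun f => AddMonoidHom.mk' (fun g => (mulS h f g : Γ(Twist.twist 𝒜 k, V)))
      fun g g' => sect_ext fun x => by rw [valAt_add, valAt_mulS, valAt_mulS, valAt_mulS, valAt_add, mul_add])
    fun f f' => AddMonoidHom.ext fun g => sect_ext fun x => by
      show valAt (show Γ(Twist.twist 𝒜 k, V) from mulS h (f + f') g) x =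
        valAt ((show Γ(Twist.twist 𝒜 k, V) from mulS h f g) + (show Γ(Twist.twist 𝒜 k, V) from mulS h f' g)) x
      rw [valAt_add, valAt_mulS, valAt_mulS, valAt_mulS, valAt_add, add_mul]
  smul_left V r f g := sect_ext fun x => by
    show valAt (show Γ(Twist.twist 𝒜 k, V) from mulS h (r • f) g) x = valAt (r • (show Γ(Twist.twist 𝒜 k, V) from mulS h f g)) x
    rw [valAt_smul, valAt_mulS, valAt_mulS, valAt_smul, mul_assoc]
  smul_right V r f g := sect_ext fun x => by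
    show valAt (show Γ(Twist.twist 𝒜 k, V) from mulS h f (r • g)) x = valAt (r • (show Γ(Twist.twist 𝒜 k, V) from mulS h f g)) x
    rw [valAt_smul, valAt_mulS, valAt_mulS, valAt_smul, mul_left_comm]
  fres _ _ _ := rfl

theorem bijective_stalk_mul {m n k : ℤ} (h : m + n = k) {x : Proj 𝒜} (hm : HasUnit 𝒜 m x) :
    Function.Bijective (stalkLin (mulPairing 𝒜 m n k h).lift x) := by
  obtain ⟨i, j, a, s, he, ha, hs⟩ := hm
  refine Pairing.bijective_stalk_lift _ (W := Proj.basicOpen 𝒜 s.1 ⊓ Proj.basicOpen 𝒜 a.1)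
    (u := frac 𝒜 a s m he inf_le_left) ⟨hs, ha⟩ (gen_frac a s m he _ inf_le_right) fun O hO => ?_
  have e : ∀ g, (mulPairing 𝒜 m n k h).f O ((Twist.twist 𝒜 m).presheaf.map (homOfLE hO).op
      (frac 𝒜 a s m he inf_le_left)) g = mulFrac 𝒜 a s n k (by omega) (hO.trans inf_le_left) g := fun g => rfl
  rw [show ⇑((mulPairing 𝒜 m n k h).f O ((Twist.twist 𝒜 m).presheaf.map (homOfLE hO).op
      (frac 𝒜 a s m he inf_le_left))) = _ from funext e]
  exact mulFrac_bijective a s n k _ _ (hO.trans inf_le_right)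

theorem isIso_mul {m n k : ℤ} (h : m + n = k) (hm : ∀ x : Proj 𝒜, HasUnit 𝒜 m x) :
    IsIso (mulPairing 𝒜 m n k h).lift := (isIso_iff_stalk _).2 fun x => bijective_stalk_mul h (hm x)

/-- `O(m) ⊗ O(n) ≅ O(k)` when `O(m)` has units everywhere. -/
def mulIso {m n k : ℤ} (h : m + n = k) (hm : ∀ x : Proj 𝒜, HasUnit 𝒜 m x) :
    CohB1.tensorMod (Twist.twist 𝒜 m) (Twist.twist 𝒜 n) ≅ Twist.twist 𝒜 k :=
  haveI := isIso_mul (n := n) h hm
  asIso (mulPairing 𝒜 m n k h).lift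

theorem nonempty_zero_iso : Nonempty (Twist.twist 𝒜 0 ≅ Coh.structureModule (Proj 𝒜)) :=
  ⟨(asIso (ProjCoh.unitToTwist 𝒜)).symm⟩

theorem bijective_stalkLin_of_isIso {X : Scheme.{u}} {M N : X.Modules} (f : M ⟶ N) [IsIso f] (x : X) :
    Function.Bijective (stalkLin f x) := (isIso_iff_stalk f).1 inferInstance x

theorem bijective_stalk_tensor_left {X : Scheme.{u}} {M M' : X.Modules} (N : X.Modules) (f : M ⟶ M') {x : X}
    (hf : Function.Bijective (stalkLin f x)) :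
    Function.Bijective (stalkLin (((DCoh.tensorBi (X := X)).map f).app N) x) := by
  let e := TensorProduct.congr (LinearEquiv.ofBijective _ hf) (LinearEquiv.refl (X.presheaf.stalk x) (N.presheaf.stalk x))
  have he : ⇑(stalkLin (((DCoh.tensorBi (X := X)).map f).app N) x) ∘ ⇑(stalkTensor x M N) =
      ⇑(stalkTensor x M' N) ∘ ⇑e := funext fun z => stalkTensor_natural_left x f z
  refine (Function.Bijective.of_comp_iff _ (stalkTensor x M N).bijective).1 ?_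
  rw [he]
  exact (stalkTensor x M' N).bijective.comp e.bijective

theorem bijective_stalk_comp {X : Scheme.{u}} {M N P : X.Modules} {f : M ⟶ N} {g : N ⟶ P} {x : X}
    (hf : Function.Bijective (stalkLin f x)) (hg : Function.Bijective (stalkLin g x)) :
    Function.Bijective (stalkLin (f ≫ g) x) := by
  rw [stalkLin_comp, LinearMap.coe_comp]
  exact hg.comp hf

/-- Composition of `f ⊗ id` with a map out of a tensor product. -/
def stepHom {X : Scheme.{u}} {M M' N P : X.Modules} (f : M ⟶ M') (p : tmod M' N ⟶ P) :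
    CohB1.tensorMod M N ⟶ P :=
  (show CohB1.tensorMod M N ⟶ tmod M' N from ((DCoh.tensorBi (X := X)).map f).app N) ≫ p

theorem bijective_stepHom {X : Scheme.{u}} {M M' N P : X.Modules} {f : M ⟶ M'} {p : tmod M' N ⟶ P} {x : X}
    (hf : Function.Bijective (stalkLin f x)) (hp : Function.Bijective (stalkLin p x)) :
    Function.Bijective (stalkLin (stepHom f p) x) :=
  bijective_stalk_comp (bijective_stalk_tensor_left N f hf) hp

/-- Powers mapped into a family with multiplications by `L`. -/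
def genPow {X : Scheme.{u}} {L : X.Modules} {F : ℕ → X.Modules} (z : Coh.structureModule X ⟶ F 0)
    (p : ∀ k, tmod (F k) L ⟶ F (k + 1)) : ∀ k, CohB1.tensorPow L k ⟶ F k
  | 0 => z
  | k + 1 => stepHom (genPow z p k) (p k)

theorem bijective_genPow {X : Scheme.{u}} {L : X.Modules} {F : ℕ → X.Modules} {z : Coh.structureModule X ⟶ F 0}
    {p : ∀ k, tmod (F k) L ⟶ F (k + 1)} {x : X} (hz : Function.Bijective (stalkLin z x))
    (hp : ∀ k, Function.Bijective (stalkLin (p k) x)) :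
    ∀ k, Function.Bijective (stalkLin (genPow z p k) x)
  | 0 => hz
  | k + 1 => bijective_stepHom (bijective_genPow hz hp k) (hp k)

theorem twist_zero_eq (d : ℤ) : Twist.twist 𝒜 0 = Twist.twist 𝒜 (((0 : ℕ) : ℤ) * d) :=
  congrArg (Twist.twist 𝒜) (show (0 : ℤ) = ((0 : ℕ) : ℤ) * d by simp)

/-- Composition with an equality. -/
def castHom {X : Scheme.{u}} {M N P : X.Modules} (f : M ⟶ N) (h : N = P) : M ⟶ P := h ▸ f

theorem bijective_castHom {X : Scheme.{u}} {M N P : X.Modules} {f : M ⟶ N} (h : N = P) {x : X}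
    (hf : Function.Bijective (stalkLin f x)) : Function.Bijective (stalkLin (castHom f h) x) := by
  subst h
  exact hf

variable (𝒜) in
/-- `O ⟶ O(0 · d)`. -/
def zeroHom (d : ℤ) : Coh.structureModule (Proj 𝒜) ⟶ Twist.twist 𝒜 (((0 : ℕ) : ℤ) * d) :=
  castHom (ProjCoh.unitToTwist 𝒜) (twist_zero_eq d)

theorem bijective_stalk_unitToTwist (x : Proj 𝒜) : Function.Bijective (stalkLin (ProjCoh.unitToTwist 𝒜) x) :=
  ProjCoh.stalk_bijective_of_app _ (U := ⊤) (fun V _ => ProjCoh.unitToTwist_bijective V) (x := x) trivial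

theorem bijective_stalk_zeroHom (d : ℤ) (x : Proj 𝒜) : Function.Bijective (stalkLin (zeroHom 𝒜 d) x) := by
  unfold zeroHom
  exact bijective_castHom (twist_zero_eq d) (bijective_stalk_unitToTwist x)

variable (𝒜) in
/-- Multiplication `O(d)^{⊗ k} ⟶ O(kd)`. -/
def powHom (d : ℤ) (k : ℕ) : CohB1.tensorPow (Twist.twist 𝒜 d) k ⟶ Twist.twist 𝒜 ((k : ℤ) * d) :=
  genPow (F := fun k : ℕ => Twist.twist 𝒜 ((k : ℤ) * d)) (zeroHom 𝒜 d)
    (fun k => (mulPairing 𝒜 ((k : ℤ) * d) d (((k + 1 : ℕ) : ℤ) * d) (by push_cast; ring)).lift) k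

theorem bijective_stalk_powHom {d : ℤ} {x : Proj 𝒜} (hd : HasUnit 𝒜 d x) (k : ℕ) :
    Function.Bijective (stalkLin (powHom 𝒜 d k) x) := by
  have key : ∀ (F : ℕ → (Proj 𝒜).Modules) (z : Coh.structureModule (Proj 𝒜) ⟶ F 0)
      (p : ∀ k, tmod (F k) (Twist.twist 𝒜 d) ⟶ F (k + 1)), Function.Bijective (stalkLin z x) →
      (∀ k, Function.Bijective (stalkLin (p k) x)) → Function.Bijective (stalkLin (genPow z p k) x) :=
    fun F z p hz hp => bijective_genPow hz hp k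
  refine key (fun k : ℕ => Twist.twist 𝒜 ((k : ℤ) * d)) _ _ ?_ ?_
  · exact bijective_stalk_zeroHom d x
  · intro j
    exact bijective_stalk_mul _ (hd.zmul j)

theorem isIso_powHom {d : ℤ} (hd : ∀ x : Proj 𝒜, HasUnit 𝒜 d x) (k : ℕ) : IsIso (powHom 𝒜 d k) :=
  (isIso_iff_stalk _).2 fun x => bijective_stalk_powHom (hd x) k

/-- `O(d)^{⊗ k} ≅ O(kd)`. -/
def powIso {d : ℤ} (hd : ∀ x : Proj 𝒜, HasUnit 𝒜 d x) (k : ℕ) :
    CohB1.tensorPow (Twist.twist 𝒜 d) k ≅ Twist.twist 𝒜 ((k : ℤ) * d) :=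
  haveI := isIso_powHom hd k
  asIso (powHom 𝒜 d k)

end Groth.Agent.ProjTwistLib
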