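import Groth.Agent.ProjTwistLib.Mul
import Groth.Agent.AmpleLib.RelLocal
import Groth.Prelude.Def_ProjUP

/-!
# Invertibility and ampleness of twisting sheaves on opens of `Proj`
-/

set_option autoImplicit false
set_option backward.isDefEq.respectTransparency false
set_option linter.style.haveILetI false

universe u

open CategoryTheory CategoryTheory.Limits AlgebraicGeometry TopologicalSpace Opposite
open Groth.Agent.PullbackMod Groth.Agent.DCohLib Groth.Agent.ParaFLib Groth.Agent.AmpleLib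
open Groth.Agent.ProjTwist

noncomputable section

namespace Groth.Agent.ProjTwistLib

variable {R A : Type u} [CommRing R] [CommRing A] [Algebra R A] {𝒜 : ℕ → Submodule R A} [GradedAlgebra 𝒜]

theorem isInvertible_restrict {d : ℤ} (Y : (Proj 𝒜).Opens) (h : ∀ x ∈ Y, HasUnit 𝒜 d x) :
    PicF.IsInvertible ((Twist.twist 𝒜 d).restrict Y.ι) := isInvertible_of_gen fun y => by
  obtain ⟨W, u, hy, hu⟩ := (h y.1 y.2).exists_gen
  have hle : Y.ι ''ᵁ (Y.ι ⁻¹ᵁ W) ≤ W := by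
    rw [Scheme.Hom.image_preimage_eq_opensRange_inf]
    exact inf_le_right
  exact ⟨Y.ι ⁻¹ᵁ W, (Twist.twist 𝒜 d).presheaf.map (homOfLE hle).op u, hy,
    (gen_restrict_iff Y.ι _ _ _).2 (hu.res hle)⟩

/-- If `a / 1` generates `O(d)` near a point with a unit of degree `d`, then `a` does not vanish there. -/
theorem notMem_of_gen {d : ℕ} (a : 𝒜 d) {x : Proj 𝒜} (h : HasUnit 𝒜 (d : ℤ) x) {O : (Proj 𝒜).Opens}
    (hxO : x ∈ O) (hO : Gen O (resT (show Γ(Twist.twist 𝒜 (d : ℤ), ⊤) from Twist.globalOf 𝒜 a) O)) :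
    x ∈ Proj.basicOpen 𝒜 a.1 := by
  obtain ⟨i, j, p, q, he, hp, hq⟩ := h
  obtain ⟨c, hc⟩ := (hO (O ⊓ Proj.basicOpen 𝒜 q.1) inf_le_left).2
    (frac 𝒜 p q (d : ℤ) he inf_le_right)
  have hv := congrArg (fun f => valAt f (⟨x, hxO, hq⟩ : (O ⊓ Proj.basicOpen 𝒜 q.1 : (Proj 𝒜).Opens))) hc
  simp only [valAt_smul, valAt_frac] at hv
  have hu : IsUnit (Localization.mk p.1 ⟨q.1, hq⟩ : Twist.Loc 𝒜 x) := by
    rw [Localization.mk_eq_mk', IsLocalization.AtPrime.isUnit_mk'_iff _ x.asHomogeneousIdeal.toIdeal]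
    exact hp
  rw [← hv] at hu
  have hu' : IsUnit (Localization.mk a.1 ⟨1, ProjCoh.one_notMem x⟩ : Twist.Loc 𝒜 x) :=
    isUnit_of_mul_isUnit_right hu
  rw [Localization.mk_eq_mk', IsLocalization.AtPrime.isUnit_mk'_iff _ x.asHomogeneousIdeal.toIdeal] at hu'
  exact hu'

theorem gen_globalOf {d : ℕ} (a : 𝒜 d) {O : (Proj 𝒜).Opens} (hO : O ≤ Proj.basicOpen 𝒜 a.1) :
    Gen O (resT (show Γ(Twist.twist 𝒜 (d : ℤ), ⊤) from Twist.globalOf 𝒜 a) O) := by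
  have := gen_frac a (⟨1, SetLike.GradedOne.one_mem⟩ : 𝒜 0) (d : ℤ) (by simp) (V := O) (by simp) hO
  exact this

/-- Sections of the restriction of a twisting sheaf given by forms. -/
def restrSec (Y : (Proj 𝒜).Opens) {d : ℕ} (a : 𝒜 d) :
    Coh.structureModule (Y : Scheme.{u}) ⟶ (Twist.twist 𝒜 (d : ℤ)).restrict Y.ι :=
  secHom ((Twist.twist 𝒜 (d : ℤ)).restrict Y.ι)
    (show Γ((Twist.twist 𝒜 (d : ℤ)).restrict Y.ι, ⊤) from
      resT (show Γ(Twist.twist 𝒜 (d : ℤ), ⊤) from Twist.globalOf 𝒜 a) (Y.ι ''ᵁ ⊤))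

theorem genLocus_restrSec {Y : (Proj 𝒜).Opens} {d : ℕ} (hY : ∀ x ∈ Y, HasUnit 𝒜 (d : ℤ) x) (a : 𝒜 d) :
    CohB1.genLocus _ (restrSec Y a) = Y.ι ⁻¹ᵁ Proj.basicOpen 𝒜 a.1 := by
  have key : ∀ U : (Y : Scheme.{u}).Opens,
      Gen U (resT (sec (restrSec Y a)) U) ↔
        Gen (Y.ι ''ᵁ U) (resT (show Γ(Twist.twist 𝒜 (d : ℤ), ⊤) from Twist.globalOf 𝒜 a) (Y.ι ''ᵁ U)) := by
    intro U
    rw [restrSec, sec_secHom]
    have := gen_restrict_iff Y.ι (Twist.twist 𝒜 (d : ℤ)) U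
      (resT (show Γ(Twist.twist 𝒜 (d : ℤ), ⊤) from Twist.globalOf 𝒜 a) (Y.ι ''ᵁ U))
    exact this
  refine le_antisymm (fun y hy => ?_) (fun y hy => mem_genLocus_iff'.2 ⟨_, hy, (key _).2 (gen_globalOf a ?_)⟩)
  · obtain ⟨U, hyU, hU⟩ := mem_genLocus_iff'.1 hy
    have hmem : Y.ι y ∈ Y.ι ''ᵁ U := ⟨y, hyU, rfl⟩
    exact notMem_of_gen a (hY y.1 y.2) hmem ((key U).1 hU)
  · rw [Scheme.Hom.image_preimage_eq_opensRange_inf]
    exact inf_le_right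

theorem exists_homogeneous_nhd {U : (Proj 𝒜).Opens} {x : Proj 𝒜} (hx : x ∈ U) :
    ∃ (e : ℕ) (a : 𝒜 e), 0 < e ∧ x ∈ Proj.basicOpen 𝒜 a.1 ∧ Proj.basicOpen 𝒜 a.1 ≤ U := by
  obtain ⟨_, ⟨f, rfl⟩, hxf, hfU⟩ := Opens.isBasis_iff_nbhd.1 (Proj.isBasis_basicOpen 𝒜) hx
  rw [Proj.basicOpen_eq_iSup_proj] at hxf hfU
  obtain ⟨i, hi⟩ := Opens.mem_iSup.1 hxf
  obtain ⟨m, g, hm, hg⟩ : ∃ (m : ℕ) (g : 𝒜 m), 0 < m ∧ x ∈ Proj.basicOpen 𝒜 g.1 := by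
    by_contra hne
    classical
    refine x.not_irrelevant_le fun f hf => ?_
    rw [← DirectSum.sum_support_decompose 𝒜 f]
    refine sum_mem fun m _ => ?_
    rcases Nat.eq_zero_or_pos m with rfl | hm
    · rw [show (DirectSum.decompose 𝒜 f 0 : A) = 0 from hf]
      exact zero_mem _
    · by_contra hmem
      exact hne ⟨m, DirectSum.decompose 𝒜 f m, hm, hmem⟩
  refine ⟨i + m, ⟨GradedRing.proj 𝒜 i f * g.1, SetLike.mul_mem_graded (Submodule.coe_mem _) g.2⟩, by omega, ?_, ?_⟩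
  · rw [Proj.basicOpen_mul]
    exact ⟨hi, hg⟩
  · rw [Proj.basicOpen_mul]
    exact inf_le_left.trans (le_trans (le_iSup (fun i => Proj.basicOpen 𝒜 (GradedRing.proj 𝒜 i f)) i) hfU)

theorem isIso_restrict_powHom {d : ℤ} (Y : (Proj 𝒜).Opens) (hY : ∀ x ∈ Y, HasUnit 𝒜 d x) (k : ℕ) :
    IsIso ((Scheme.Modules.restrictFunctor Y.ι).map (powHom 𝒜 d k)) := by
  rw [Scheme.Modules.Hom.isIso_iff_isIso_app]
  intro a
  rw [ConcreteCategory.isIso_iff_bijective]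
  exact ProjCoh.app_bijective_of_stalk (powHom 𝒜 d k) (U := Y) (fun x hx => bijective_stalk_powHom (hY x hx) k)
    ((Y.ι.image_mono le_top).trans Y.ι_image_top.le)

/-- `O(d)` restricted to a quasi-compact open on which it has units is ample, for `d > 0`. -/
theorem ampleOn_twist {d : ℕ} (hd : 0 < d) {Y : (Proj 𝒜).Opens} (hY : IsCompact (Y : Set (Proj 𝒜)))
    (h : ∀ x ∈ Y, HasUnit 𝒜 (d : ℤ) x) : AmpleOn (Twist.twist 𝒜 (d : ℤ)) Y := by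
  refine ⟨isInvertible_restrict Y h, isCompact_iff_compactSpace.1 hY, fun y => ?_⟩
  obtain ⟨e, a, he, hya, haY⟩ := exists_homogeneous_nhd y.2
  obtain ⟨n, rfl⟩ : ∃ n, e = n + 1 := ⟨e - 1, by omega⟩
  have ha' : a.1 ^ d ∈ 𝒜 ((n + 1) * d) := by
    rw [mul_comm]
    exact SetLike.pow_mem_graded d a.2
  have hb : Proj.basicOpen 𝒜 (a.1 ^ d) = Proj.basicOpen 𝒜 a.1 := Proj.basicOpen_pow _ _ _ hd
  haveI := isIso_restrict_powHom Y h (n + 1)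
  have hcast : ((((n + 1) * d : ℕ)) : ℤ) = ((n + 1 : ℕ) : ℤ) * (d : ℤ) := by push_cast; ring
  let φ : (Twist.twist 𝒜 (((n + 1) * d : ℕ) : ℤ)).restrict Y.ι ≅
      CohB1.tensorPow ((Twist.twist 𝒜 (d : ℤ)).restrict Y.ι) (n + 1) :=
    (Scheme.Modules.restrictFunctor Y.ι).mapIso (eqToIso (congrArg (Twist.twist 𝒜) hcast)) ≪≫
      (asIso ((Scheme.Modules.restrictFunctor Y.ι).map (powHom 𝒜 (d : ℤ) (n + 1)))).symm ≪≫
      restrictPow Y.ι _ _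
  refine ⟨n, restrSec Y ⟨a.1 ^ d, ha'⟩ ≫ φ.hom, ?_⟩
  have hloc : CohB1.genLocus _ (restrSec Y ⟨a.1 ^ d, ha'⟩ ≫ φ.hom) = Y.ι ⁻¹ᵁ Proj.basicOpen 𝒜 a.1 := by
    refine (genLocus_comp_iso _ _).trans ?_
    refine (genLocus_restrSec (fun x hx => ?_) _).trans (congrArg (Y.ι ⁻¹ᵁ ·) hb)
    rw [hcast]
    exact (h x hx).zmul _
  rw [hloc]
  exact ⟨hya, (Proj.isAffineOpen_basicOpen 𝒜 a.1 a.2 he).preimage_of_isOpenImmersion Y.ι
    (haY.trans Y.opensRange_ι.ge)⟩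

theorem isAmple_twist [CompactSpace (Proj 𝒜)] {d : ℕ} (hd : 0 < d) (h : ∀ x : Proj 𝒜, HasUnit 𝒜 (d : ℤ) x) :
    CohB1.IsAmple (Twist.twist 𝒜 (d : ℤ)) :=
  ampleOn_top_iff.1 (ampleOn_twist hd isCompact_univ fun x _ => h x)

/-- A common period on a quasi-compact set. -/
theorem exists_period_hasUnit {Y : Set (Proj 𝒜)} (hY : IsCompact Y) :
    ∃ d : ℕ, 0 < d ∧ ∀ y ∈ Y, ∃ a : 𝒜 d, y ∈ Proj.basicOpen 𝒜 a.1 := by
  choose e a he hxa _ using fun x : Proj 𝒜 => exists_homogeneous_nhd (U := ⊤) (x := x) trivial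
  obtain ⟨t, ht⟩ := hY.elim_finite_subcover (fun x => (Proj.basicOpen 𝒜 (a x).1 : Set (Proj 𝒜)))
    (fun x => (Proj.basicOpen 𝒜 (a x).1).2) (fun x _ => Set.mem_iUnion.2 ⟨x, hxa x⟩)
  refine ⟨∏ x ∈ t, e x, Finset.prod_pos fun x _ => he x, fun y hy => ?_⟩
  obtain ⟨x, hx, hy'⟩ := Set.mem_iUnion₂.1 (ht hy)
  obtain ⟨q, hq⟩ := Finset.dvd_prod_of_mem e hx
  have hq0 : 0 < q := by
    rcases Nat.eq_zero_or_pos q with rfl | h0
    · simp only [mul_zero] at hq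
      exact absurd hq (Finset.prod_pos fun x _ => he x).ne'
    · exact h0
  refine ⟨⟨(a x).1 ^ q, ?_⟩, ?_⟩
  · rw [hq, mul_comm]
    exact SetLike.pow_mem_graded q (a x).2
  · rw [Proj.basicOpen_pow _ _ _ hq0]
    exact hy'

theorem hasUnit_one_of_cover (hcov : (⨆ f : 𝒜 1, Proj.basicOpen 𝒜 (f : A)) = ⊤) (n : ℤ) (x : Proj 𝒜) :
    HasUnit 𝒜 n x := by
  have := (hasUnit_of_iSup (d := 1) (hcov.ge (Opens.mem_top x))).zmul n
  simpa using this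

theorem exists_mem_of_cover {ι : Type*} {f : ι → A} (h : ⨆ i, Proj.basicOpen 𝒜 (f i) = ⊤) (x : Proj 𝒜) :
    ∃ i, x ∈ Proj.basicOpen 𝒜 (f i) := Opens.mem_iSup.1 (h.ge (Opens.mem_top x))

theorem compactSpace_of_cover {ι : Type*} [Finite ι] {f : ι → A} {e : ι → ℕ} (hf : ∀ i, f i ∈ 𝒜 (e i))
    (he : ∀ i, 0 < e i) (h : ⨆ i, Proj.basicOpen 𝒜 (f i) = ⊤) : CompactSpace (Proj 𝒜) := by
  rw [← isCompact_univ_iff, ← Opens.coe_top, ← h, Opens.coe_iSup]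
  exact isCompact_iUnion fun i => (Proj.isAffineOpen_basicOpen 𝒜 (f i) (hf i) (he i)).isCompact

theorem iSup_basicOpen_of_adjoin {ι : Type*} {f : ι → A} {e : ι → ℕ} (hf : ∀ i, f i ∈ 𝒜 (e i))
    (hgen : Algebra.adjoin R (Set.range f) = ⊤) : ⨆ i, Proj.basicOpen 𝒜 (f i) = ⊤ := by
  refine Proj.iSup_basicOpen_eq_top' 𝒜 f (fun i => ⟨e i, hf i⟩) (Algebra.eq_top_iff.2 fun x => ?_)
  have hx : x ∈ Algebra.adjoin R (Set.range f) := hgen ▸ Algebra.mem_top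
  induction hx using Algebra.adjoin_induction with
  | mem y hy => exact Algebra.subset_adjoin hy
  | algebraMap r =>
    have : algebraMap R A r = algebraMap (𝒜 0) A ⟨algebraMap R A r, SetLike.algebraMap_mem_graded _ r⟩ := rfl
    rw [this]
    exact Subalgebra.algebraMap_mem _ _
  | add y z _ _ hy hz => exact add_mem hy hz
  | mul y z _ _ hy hz => exact mul_mem hy hz

theorem exists_mem_pow {ι : Type*} {f : ι → A} {e : ι → ℕ} (hf : ∀ i, f i ∈ 𝒜 (e i))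
    (h : ⨆ i, Proj.basicOpen 𝒜 (f i) = ⊤) {N : ℕ} (hN : 0 < N) (hdvd : ∀ i, e i ∣ N) (x : Proj 𝒜) :
    ∃ b : 𝒜 N, x ∈ Proj.basicOpen 𝒜 b.1 := by
  obtain ⟨i, hi⟩ := exists_mem_of_cover h x
  obtain ⟨q, hq⟩ := hdvd i
  have hq0 : 0 < q := by
    rcases Nat.eq_zero_or_pos q with rfl | h0
    · simp at hq; omega
    · exact h0
  refine ⟨⟨f i ^ q, ?_⟩, ?_⟩
  · rw [hq, mul_comm]
    exact SetLike.pow_mem_graded q (hf i)
  · rw [Proj.basicOpen_pow _ _ _ hq0]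
    exact hi

theorem generatedBy_globalOf {N : ℕ} (h : ∀ x : Proj 𝒜, ∃ b : 𝒜 N, x ∈ Proj.basicOpen 𝒜 b.1) :
    ProjUP.GeneratedBy (Twist.twist 𝒜 (N : ℤ))
      (fun b : 𝒜 N => (Twist.globalOf 𝒜 b : ProjUP.Γm (Twist.twist 𝒜 (N : ℤ)))) := by
  intro x
  obtain ⟨b, hb⟩ := h x
  refine eq_top_iff.2 fun z _ => ?_
  obtain ⟨r, rfl⟩ := ((gen_globalOf b le_rfl).bijective_germ x hb).2 z
  refine Submodule.smul_mem _ r (Submodule.subset_span ⟨b, ?_⟩)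
  exact (TopCat.Presheaf.germ_res_apply _ _ x hb _).symm

theorem isAmple_pullback_twist {X : Scheme.{u}} [CompactSpace X] (j : X ⟶ Proj 𝒜) [IsOpenImmersion j] {d : ℕ}
    (hd : 0 < d) (h : ∀ x ∈ Set.range j.base, HasUnit 𝒜 (d : ℤ) x) :
    CohB1.IsAmple ((Scheme.Modules.pullback j).obj (Twist.twist 𝒜 (d : ℤ))) :=
  isAmple_of_iso (restrictIso j _) ((ampleOn_iff_of_range j).2
    (ampleOn_twist hd (isCompact_range j.continuous) fun x hx => h x hx))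

end Groth.Agent.ProjTwistLib
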