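import Groth.Agent.DCohLib.StalkTensor
import Groth.Agent.ParaFLib.Stalk

/-!
# Maps out of a tensor product given by pairings of sections
-/

set_option autoImplicit false
set_option backward.isDefEq.respectTransparency false
set_option linter.style.haveILetI false

universe u

open CategoryTheory CategoryTheory.Limits AlgebraicGeometry TopologicalSpace Opposite MonoidalCategory
open Groth.Agent.PullbackMod Groth.Agent.DCohLib Groth.Agent.ParaFLib
open Groth.Agent.ModTensor Groth.Agent.PullFlat
open scoped TensorProduct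

noncomputable section

namespace Groth.Agent.ProjTwistLib

variable {X : Scheme.{u}}

/-- A pairing of sections. -/
structure Pairing (M N P : X.Modules) where
  /-- The pairing. -/
  f : ∀ U : X.Opens, Γ(M, U) →+ Γ(N, U) →+ Γ(P, U)
  smul_left : ∀ (U : X.Opens) (r : Γ(X, U)) (m : Γ(M, U)) (n : Γ(N, U)), f U (r • m) n = r • f U m n
  smul_right : ∀ (U : X.Opens) (r : Γ(X, U)) (m : Γ(M, U)) (n : Γ(N, U)), f U m (r • n) = r • f U m n
  fres : ∀ {U V : X.Opens} (h : V ≤ U) (m : Γ(M, U)) (n : Γ(N, U)),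
    f V (M.presheaf.map (homOfLE h).op m) (N.presheaf.map (homOfLE h).op n) =
      P.presheaf.map (homOfLE h).op (f U m n)

variable {M N P : X.Modules} (φ : Pairing M N P)

/-- The pairing on tensors of sections. -/
def Pairing.onT (U : X.Opens) : Γ(M, U) ⊗[Γ(X, U)] Γ(N, U) →+ Γ(P, U) :=
  TensorProduct.liftAddHom (φ.f U) fun r m n => (φ.smul_left U r m n).trans (φ.smul_right U r m n).symm

theorem Pairing.onT_smul (U : X.Opens) (r : Γ(X, U)) (z : Γ(M, U) ⊗[Γ(X, U)] Γ(N, U)) :
    φ.onT U (r • z) = r • φ.onT U z := by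
  induction z using TensorProduct.induction_on with
  | zero => rw [smul_zero, map_zero, smul_zero]
  | tmul m n =>
    rw [TensorProduct.smul_tmul']
    exact φ.smul_left U r m n
  | add a b ha hb => rw [smul_add, map_add, ha, hb, map_add, smul_add]

theorem Pairing.onT_res {U V : X.Opens} (i : V ⟶ U) (z : Γ(M, U) ⊗[Γ(X, U)] Γ(N, U)) :
    φ.onT V (res (pre X.sheaf M ⊗ pre X.sheaf N) i.op z) = P.presheaf.map i.op (φ.onT U z) := by
  induction z using TensorProduct.induction_on with
  | zero =>
    exact ((congrArg _ (map_zero _)).trans (map_zero _)).trans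
      ((congrArg _ (map_zero (φ.onT U))).trans (map_zero _)).symm
  | tmul m n =>
    refine (congrArg _ (res_tmul (pre X.sheaf M) (pre X.sheaf N) i.op m n)).trans ?_
    exact φ.fres (leOfHom i) m n
  | add a b ha hb =>
    exact ((congrArg _ (map_add _ a b)).trans ((map_add _ _ _).trans (congrArg₂ (· + ·) ha hb))).trans
      ((congrArg _ (map_add (φ.onT U) a b)).trans (map_add _ _ _)).symm

/-- The presheaf map. -/
def Pairing.preMap : pre X.sheaf M ⊗ pre X.sheaf N ⟶ pre X.sheaf P :=
  PresheafOfModules.homMk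
    { app := fun U => AddCommGrpCat.ofHom (φ.onT U.unop)
      naturality := fun {U V} i => by
        refine AddCommGrpCat.hom_ext (AddMonoidHom.ext fun z => ?_)
        exact φ.onT_res i.unop z }
    fun U r z => φ.onT_smul U.unop r z

/-- The map out of the tensor product. -/
def Pairing.lift : tmod M N ⟶ P :=
  ((PresheafOfModules.sheafificationAdjunction (𝟙 (ModSite.ringSh X.sheaf).obj)).homEquiv _ _).symm φ.preMap

theorem Pairing.lift_pairS {U : X.Opens} (m : Γ(M, U)) (n : Γ(N, U)) :
    φ.lift.app U (pairS M N m n) = φ.f U m n := by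
  let adj := PresheafOfModules.sheafificationAdjunction (𝟙 (ModSite.ringSh X.sheaf).obj)
  have h' : shUnit X.sheaf (pre X.sheaf M ⊗ pre X.sheaf N) ≫
      (preFunctor X.sheaf).map ((adj.homEquiv _ _).symm φ.preMap) = φ.preMap :=
    (adj.homEquiv_unit _ _ _).symm.trans (Equiv.apply_symm_apply _ _)
  exact congr(($h').app (op U) (m ⊗ₜ[Γ(X, U)] n : Γ(M, U) ⊗[Γ(X, U)] Γ(N, U)))

theorem Pairing.lift_germ {U : X.Opens} {x : X} (hx : x ∈ U) (m : Γ(M, U)) (n : Γ(N, U)) :
    stalkLin φ.lift x ((tmod M N).presheaf.germ U x hx (pairS M N m n)) =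
      P.presheaf.germ U x hx (φ.f U m n) := by
  rw [stalkLin_germ, φ.lift_pairS]

/-- The map is bijective on the stalk at `x` when near `x` the first factor has a generator whose pairing is
bijective. -/
theorem Pairing.bijective_stalk_lift {x : X} {W : X.Opens} {u : Γ(M, W)} (hxW : x ∈ W) (hu : Gen W u)
    (hb : ∀ (O : X.Opens) (hO : O ≤ W), Function.Bijective (φ.f O (M.presheaf.map (homOfLE hO).op u))) :
    Function.Bijective (stalkLin φ.lift x) := by
  let F : N.presheaf.stalk x → (tmod M N).presheaf.stalk x := fun b =>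
    stalkTensor x M N (M.presheaf.germ W x hxW u ⊗ₜ b)
  have hF : ∀ (O : X.Opens) (hO : O ≤ W) (hx : x ∈ O) (n : Γ(N, O)),
      F (N.presheaf.germ O x hx n) =
        (tmod M N).presheaf.germ O x hx (pairS M N (M.presheaf.map (homOfLE hO).op u) n) := by
    intro O hO hx n
    show stalkTensorHom x _ = _
    rw [← TopCat.Presheaf.germ_res_apply M.presheaf (homOfLE hO) x hx u, stalkTensorHom_tmul]
  have hFsurj : Function.Surjective F := by
    intro z
    obtain ⟨w, rfl⟩ := (stalkTensor x M N).surjective z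
    induction w using TensorProduct.induction_on with
    | zero => exact ⟨0, by simp [F]⟩
    | tmul a b =>
      obtain ⟨r, rfl⟩ := (hu.bijective_germ x hxW).2 a
      exact ⟨r • b, congrArg (stalkTensor x M N) (TensorProduct.smul_tmul r _ b).symm⟩
    | add a b ha hb =>
      obtain ⟨p, hp⟩ := ha
      obtain ⟨q, hq⟩ := hb
      exact ⟨p + q, by simp only [F, TensorProduct.tmul_add, map_add] at hp hq ⊢; rw [hp, hq]⟩
  have hG : Function.Bijective (stalkLin φ.lift x ∘ F) := by
    constructor
    · intro b b' e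
      obtain ⟨U, hx, n, rfl⟩ := TopCat.Presheaf.exists_germ_eq N.presheaf b
      obtain ⟨U', hx', n', rfl⟩ := TopCat.Presheaf.exists_germ_eq N.presheaf b'
      have hxO : x ∈ U ⊓ U' ⊓ W := ⟨⟨hx, hx'⟩, hxW⟩
      have h1 : U ⊓ U' ⊓ W ≤ U := inf_le_left.trans inf_le_left
      have h2 : U ⊓ U' ⊓ W ≤ U' := inf_le_left.trans inf_le_right
      have hOW : U ⊓ U' ⊓ W ≤ W := inf_le_right
      simp only [Function.comp_apply] at e
      rw [← TopCat.Presheaf.germ_res_apply N.presheaf (homOfLE h1) x hxO n,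
        ← TopCat.Presheaf.germ_res_apply N.presheaf (homOfLE h2) x hxO n', hF _ hOW, hF _ hOW,
        φ.lift_germ, φ.lift_germ] at e
      obtain ⟨V, hV, i, i', hV'⟩ := TopCat.Presheaf.germ_eq P.presheaf x hxO hxO _ _ e
      rw [show i = homOfLE (leOfHom i) from Subsingleton.elim _ _,
        show i' = homOfLE (leOfHom i) from Subsingleton.elim _ _] at hV'
      rw [← φ.fres, ← φ.fres, ParaFLib.res_res] at hV'
      have key := (hb V _).1 hV'
      rw [← TopCat.Presheaf.germ_res_apply N.presheaf (homOfLE h1) x hxO n,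
        ← TopCat.Presheaf.germ_res_apply N.presheaf (homOfLE h2) x hxO n',
        ← TopCat.Presheaf.germ_res_apply N.presheaf i x hV,
        ← TopCat.Presheaf.germ_res_apply N.presheaf i' x hV (N.presheaf.map (homOfLE h2).op n')]
      exact congrArg _ key
    · intro c
      obtain ⟨U, hx, p, rfl⟩ := TopCat.Presheaf.exists_germ_eq P.presheaf c
      have hxO : x ∈ U ⊓ W := ⟨hx, hxW⟩
      obtain ⟨n, hn⟩ := (hb (U ⊓ W) inf_le_right).2 (P.presheaf.map (homOfLE inf_le_left).op p)
      refine ⟨N.presheaf.germ (U ⊓ W) x hxO n, ?_⟩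
      simp only [Function.comp_apply]
      rw [hF _ inf_le_right hxO, φ.lift_germ, hn, TopCat.Presheaf.germ_res_apply]
  refine ⟨fun a b e => ?_, hG.2.of_comp⟩
  obtain ⟨p, rfl⟩ := hFsurj a
  obtain ⟨q, rfl⟩ := hFsurj b
  exact congrArg F (hG.1 e)

end Groth.Agent.ProjTwistLib
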