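import Groth.Agent.ProjTwistLib.Ample
import Groth.Agent.ProjTwist.Zero
import Mathlib.AlgebraicGeometry.QuasiAffine

/-!
# The structure sheaf of projective space is not ample
-/

set_option autoImplicit false
set_option backward.isDefEq.respectTransparency false
set_option linter.style.haveILetI false

universe u

open CategoryTheory CategoryTheory.Limits AlgebraicGeometry TopologicalSpace Opposite
open Groth.Agent.AmpleLib

noncomputable section

namespace Groth.Agent.ProjTwistLib

variable (n : ℕ) (R : Type u) [CommRing R]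

theorem isQuasiAffine_projSpace_imp_mono (h : (CohB1.ProjSpace n R).IsQuasiAffine) :
    Mono (CohB1.ProjSpace.toSpec n R) := by
  let e : R →+* Γ(CohB1.ProjSpace n R, ⊤) := Coh.toGlobal (CohB1.ProjSpace.toSpec n R)
  have he : Function.Bijective e := ProjTwist.projφ_bijective n R
  haveI : IsIso (CommRingCat.ofHom e) := (ConcreteCategory.isIso_iff_bijective _).2 he
  haveI := h
  have h1 : CohB1.ProjSpace.toSpec n R =
      (CohB1.ProjSpace n R).toSpecΓ ≫ Spec.map (CommRingCat.ofHom e) := by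
    have : CommRingCat.ofHom e = (Scheme.ΓSpecIso (CommRingCat.of R)).inv ≫ (CohB1.ProjSpace.toSpec n R).appTop := rfl
    rw [this, Spec.map_comp, ← Scheme.toSpecΓ_naturality_assoc]
    simp
  rw [h1]
  infer_instance

theorem not_mono_toSpec [Nontrivial R] (hn : 1 ≤ n) : ¬ Mono (CohB1.ProjSpace.toSpec n R) := by
  intro hmono
  obtain ⟨m, hm⟩ := Ideal.exists_maximal R
  haveI := Ideal.Quotient.maximal_ideal_iff_isField_quotient m |>.1 hm
  let K := R ⧸ m
  haveI : Nontrivial K := Ideal.Quotient.nontrivial_iff.2 hm.ne_top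
  let X : Scheme.{u} := Spec (CommRingCat.of K)
  let ψ : K →+* Γ(X, ⊤) := (Scheme.ΓSpecIso (CommRingCat.of K)).inv.hom
  let f : Fin (n + 1) → (MvPolynomial (Fin (n + 1)) R →+* Γ(X, ⊤)) := fun k =>
    ψ.comp (MvPolynomial.eval₂Hom (Ideal.Quotient.mk m) (Pi.single k 1))
  have hX : ∀ k a, f k (MvPolynomial.X a) = if a = k then 1 else 0 := fun k a => by
    simp only [f, RingHom.comp_apply, MvPolynomial.eval₂Hom_X', Pi.single_apply]
    split_ifs <;> simp
  have hf : ∀ k, (HomogeneousIdeal.irrelevant (CohB1.polyGrading n R)).toIdeal.map (f k) = ⊤ := fun k => by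
    refine (Ideal.eq_top_iff_one _).2 ?_
    rw [← show f k (MvPolynomial.X k) = 1 by rw [hX, if_pos rfl]]
    exact Ideal.mem_map_of_mem _ ((HomogeneousIdeal.mem_irrelevant_iff _ _).2
      (DirectSum.decompose_of_mem_ne _ (ProjMap.X_mem k) (Nat.one_ne_zero)))
  let P : Fin (n + 1) → (X ⟶ CohB1.ProjSpace n R) := fun k => Proj.fromOfGlobalSections _ (f k) (hf k)
  have hcomp : ∀ k, P k ≫ CohB1.ProjSpace.toSpec n R =
      X.toSpecΓ ≫ Spec.map (CommRingCat.ofHom (ψ.comp (Ideal.Quotient.mk m))) := fun k => by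
    show Proj.fromOfGlobalSections _ (f k) (hf k) ≫ Proj.toSpecZero _ ≫ _ = _
    rw [Proj.fromOfGlobalSections_toSpecZero_assoc, ← Spec.map_comp, ← CommRingCat.ofHom_comp]
    congr 3
    exact RingHom.ext fun r => congrArg ψ (MvPolynomial.eval₂Hom_C _ _ r)
  have hpre : ∀ k a, P k ⁻¹ᵁ Proj.basicOpen (CohB1.polyGrading n R) (MvPolynomial.X a) =
      X.basicOpen (f k (MvPolynomial.X a)) := fun k a =>
    Proj.fromOfGlobalSections_preimage_basicOpen _ _ _ one_pos (ProjMap.X_mem a)
  have h01 : P 0 = P (Fin.last n) := (cancel_mono (CohB1.ProjSpace.toSpec n R)).1 ((hcomp _).trans (hcomp _).symm)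
  have hne : (0 : Fin (n + 1)) ≠ Fin.last n := fun h => by
    have := congrArg Fin.val h
    simp at this
    omega
  have h0 := hpre 0 0
  have h1 := hpre (Fin.last n) 0
  rw [← h01, h0, hX, hX, if_pos rfl, if_neg hne, Scheme.basicOpen_zero] at h1
  have : X.basicOpen (1 : Γ(X, ⊤)) = ⊤ := X.basicOpen_of_isUnit isUnit_one
  rw [this] at h1
  obtain ⟨x⟩ : Nonempty X := inferInstanceAs (Nonempty (PrimeSpectrum K))
  exact (h1.le (Opens.mem_top x) : x ∈ (⊥ : X.Opens))

theorem not_isAmple_structureModule [Nontrivial R] (hn : 1 ≤ n) :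
    ¬ CohB1.IsAmple (Coh.structureModule (CohB1.ProjSpace n R)) := fun h =>
  haveI := h.2.1
  not_mono_toSpec n R hn (isQuasiAffine_projSpace_imp_mono n R (isQuasiAffine_iff.2 h))

end Groth.Agent.ProjTwistLib
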